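import Groth.Prelude.Def_EtBase
import Groth.Agent.CalgB.PowSer
import Groth.Agent.CalgB.PowField
import Groth.Agent.EtpbcB.StrHensEquiv
import Mathlib.RingTheory.Henselian
import Mathlib.RingTheory.MvPowerSeries.Inverse

/-!
# Power series rings over complete local rings with separably closed residue field

* `isLocalHom_algebraMap`: `A ⟶ A[[T_1, ..., T_n]]` is local.
* `henselian`, `isSepClosed`: `A[[T_1, ..., T_n]]` is strictly henselian.
-/

set_option autoImplicit false
universe u

open IsLocalRing

namespace Groth.Agent.Etdl.H438.PowStrict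

section residue

variable (A : Type u) [CommRing A] (n : ℕ)

theorem isLocalHom_constantCoeff :
    IsLocalHom (MvPowerSeries.constantCoeff (σ := Fin n) (R := A)) :=
  ⟨fun _ h => MvPowerSeries.isUnit_iff_constantCoeff.2 h⟩

theorem constantCoeff_algebraMap (a : A) :
    MvPowerSeries.constantCoeff (σ := Fin n) (R := A) (algebraMap A (MvPowerSeries (Fin n) A) a) = a := by
  rw [MvPowerSeries.algebraMap_apply, MvPowerSeries.constantCoeff_C]
  rfl

theorem isLocalHom_algebraMap : IsLocalHom (algebraMap A (MvPowerSeries (Fin n) A)) := by
  refine ⟨fun a h => ?_⟩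
  have h1 := h.map (MvPowerSeries.constantCoeff (σ := Fin n) (R := A))
  rwa [constantCoeff_algebraMap] at h1

variable [IsLocalRing A]

theorem isSepClosed [IsSepClosed (ResidueField A)] :
    IsSepClosed (ResidueField (MvPowerSeries (Fin n) A)) := by
  have h1 := isLocalHom_constantCoeff A n
  have h2 : Function.Bijective (ResidueField.map (MvPowerSeries.constantCoeff (σ := Fin n) (R := A))) := by
    refine ⟨RingHom.injective _, fun y => ?_⟩
    obtain ⟨a, rfl⟩ := residue_surjective y
    refine ⟨residue _ (algebraMap A (MvPowerSeries (Fin n) A) a), ?_⟩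
    rw [ResidueField.map_residue, constantCoeff_algebraMap]
  exact Groth.Agent.EtpbcB.StrHensEquiv.isSepClosed_of_ringEquiv (RingEquiv.ofBijective _ h2).symm

theorem henselian_of_isAdicComplete (B : Type u) [CommRing B] [IsLocalRing B]
    [IsAdicComplete (maximalIdeal B) B] : HenselianLocalRing B := by
  refine { is_henselian := fun f hf a₀ h₁ h₂ => ?_ }
  refine HenselianRing.is_henselian (I := maximalIdeal B) f hf a₀ h₁ ?_
  exact h₂.map _

theorem henselian [IsAdicComplete (maximalIdeal A) A] :
    HenselianLocalRing (MvPowerSeries (Fin n) A) := by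
  have := Groth.Agent.CalgB.PowSer.isAdicComplete_mvPowerSeries (A := A) n
  exact henselian_of_isAdicComplete _

end residue

section field

variable (k : Type u) [Field k] (n : ℕ)

theorem isSepClosed_field [IsSepClosed k] : IsSepClosed (ResidueField (MvPowerSeries (Fin n) k)) := by
  have h : IsSepClosed (ResidueField k) := by
    have h2 : Function.Bijective (residue k) := ⟨RingHom.injective _, residue_surjective⟩
    exact Groth.Agent.EtpbcB.StrHensEquiv.isSepClosed_of_ringEquiv (RingEquiv.ofBijective _ h2)
  exact isSepClosed k n

theorem henselian_field : HenselianLocalRing (MvPowerSeries (Fin n) k) := by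
  have := Groth.Agent.CalgB.PowField.isAdicComplete k n
  exact henselian_of_isAdicComplete _

end field

end Groth.Agent.Etdl.H438.PowStrict
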