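import Groth.Agent.Etdl.H438.SLocBC
import Groth.Agent.Etdl.H438.PowStrict
import Groth.Agent.Etcore.HpullEq
import Mathlib.Algebra.CharZero.Defs
import Mathlib.Algebra.Algebra.Rat

/-!
# S3739 from base change for higher direct images
-/

set_option autoImplicit false
universe u

open CategoryTheory CategoryTheory.Limits AlgebraicGeometry Opposite

namespace Groth.Agent.Etdl.H438.PowAsm

open EtCoh

/-- Torsion sheaves are of torsion invertible on `Spec R` if all positive integers are units of `R`. -/
theorem isTorsionInvertibleOn_of_isTorsion (R : Type u) [CommRing R]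
    (hR : ∀ n : ℕ, 0 < n → IsUnit (n : R)) {X : Scheme.{u}} (F : Ab X) (hF : EtCoh.IsTorsion F) :
    EtPBC.IsTorsionInvertibleOn (Spec (CommRingCat.of R)) F := by
  intro U s x
  obtain ⟨V, g, hv, h⟩ := hF U s x
  obtain ⟨n, hn, h0⟩ := isOfFinAddOrder_iff_nsmul_eq_zero.1 h
  refine ⟨V, g, n, hv, ?_, h0⟩
  have h1 := (hR n hn).map (Scheme.ΓSpecIso (CommRingCat.of R)).inv.hom
  rwa [map_natCast] at h1

theorem isUnit_natCast_mvPowerSeries (k : Type u) [Field k] [CharZero k] (m n : ℕ) (hn : 0 < n) :
    IsUnit (n : MvPowerSeries (Fin m) k) := by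
  have h : IsUnit (n : k) := isUnit_iff_ne_zero.2 (Nat.cast_ne_zero.2 hn.ne')
  have h1 := h.map (algebraMap k (MvPowerSeries (Fin m) k))
  rwa [map_natCast] at h1

/-- The closed point of a local homomorphism. -/
theorem map_closedPoint {A B : Type u} [CommRing A] [CommRing B] [IsLocalRing A] [IsLocalRing B]
    (φ : A →+* B) [IsLocalHom φ] :
    (Spec.map (CommRingCat.ofHom φ)) (IsLocalRing.closedPoint B) = IsLocalRing.closedPoint A :=
  IsLocalRing.comap_closedPoint φ

theorem main (k : Type u) [Field k] [IsSepClosed k]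
    (m r : ℕ) {X : Scheme.{u}} (f : X ⟶ Spec (CommRingCat.of (MvPowerSeries (Fin m) k)))
    [QuasiCompact f] [QuasiSeparated f]
    (hbc : ∀ G : Ab X, EtPBC.IsTorsionInvertibleOn (Spec (CommRingCat.of (MvPowerSeries (Fin m) k))) G →
      (∀ q : ℕ, Nonempty ((pull (Spec.map (CommRingCat.ofHom
          (algebraMap (MvPowerSeries (Fin m) k) (MvPowerSeries (Fin r) (MvPowerSeries (Fin m) k)))))).obj
            ((Rpush f q).obj G) ≅
        (Rpush (pullback.snd f (Spec.map (CommRingCat.ofHom
          (algebraMap (MvPowerSeries (Fin m) k) (MvPowerSeries (Fin r) (MvPowerSeries (Fin m) k)))))) q).obj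
          ((pull (pullback.fst f (Spec.map (CommRingCat.ofHom
      (algebraMap (MvPowerSeries (Fin m) k) (MvPowerSeries (Fin r) (MvPowerSeries (Fin m) k))))))).obj G))) ∧
      IsIso (baseChange0 f (Spec.map (CommRingCat.ofHom
          (algebraMap (MvPowerSeries (Fin m) k) (MvPowerSeries (Fin r) (MvPowerSeries (Fin m) k)))))
            (pullback.snd f _) (pullback.fst f _) pullback.condition G))
    (F : EtCoh.Ab X)
    (hF : EtPBC.IsTorsionInvertibleOn (Spec (CommRingCat.of (MvPowerSeries (Fin m) k))) F) (q : ℕ)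
    [PreservesFiniteLimits (EtCoh.pull (pullback.fst f (Spec.map (CommRingCat.ofHom
      (algebraMap (MvPowerSeries (Fin m) k) (MvPowerSeries (Fin r) (MvPowerSeries (Fin m) k)))))))] :
    Function.Bijective (EtCore.Hpull (pullback.fst f (Spec.map (CommRingCat.ofHom
      (algebraMap (MvPowerSeries (Fin m) k) (MvPowerSeries (Fin r) (MvPowerSeries (Fin m) k)))))) F q) := by
  have i1 : HenselianLocalRing (MvPowerSeries (Fin m) k) := PowStrict.henselian_field k m
  have i2 : IsSepClosed (IsLocalRing.ResidueField (MvPowerSeries (Fin m) k)) :=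
    PowStrict.isSepClosed_field k m
  have i0 := Groth.Agent.CalgB.PowField.isAdicComplete k m
  have i3 : HenselianLocalRing (MvPowerSeries (Fin r) (MvPowerSeries (Fin m) k)) :=
    PowStrict.henselian (MvPowerSeries (Fin m) k) r
  have i4 : IsSepClosed (IsLocalRing.ResidueField (MvPowerSeries (Fin r) (MvPowerSeries (Fin m) k))) :=
    PowStrict.isSepClosed (MvPowerSeries (Fin m) k) r
  have i5 := PowStrict.isLocalHom_algebraMap (MvPowerSeries (Fin m) k) r
  rw [Groth.Agent.Etcore.HpullCalc.bijective_Hpull_iff]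
  exact SLocBC.bijective_hp (map_closedPoint (algebraMap (MvPowerSeries (Fin m) k)
    (MvPowerSeries (Fin r) (MvPowerSeries (Fin m) k)))) f (pullback.snd f _) (pullback.fst f _)
    pullback.condition (fun G hG => (hbc G hG).2)
    (fun G hG hz q hq => ((pull _).map_isZero (hz q hq)).of_iso ((hbc G hG).1 q).some.symm) F hF q

end Groth.Agent.Etdl.H438.PowAsm
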