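import Groth.Agent.Etrest.HPush
import Groth.Agent.Etcore.ExtMap
import Groth.Agent.Etcore.HpullCalc
import Groth.Agent.EtpbcA.LAUnit
import Groth.Agent.Etcore.TorInv
import Groth.Agent.S0073
import Groth.Agent.S0101

/-!
# Cohomology over strictly local bases and base change

`R ⟶ R'` a local homomorphism of strictly henselian local rings, `f : X ⟶ Spec R` qcqs, `f'`, `g'` its
base change.  If, for sheaves on `X` of torsion invertible on `Spec R`, base change holds in degree `0`
and `f_*`-acyclic sheaves pull back to `f'_*`-acyclic sheaves, then `H^q(X, F) ⟶ H^q(X', g'⁻¹ F)` is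
bijective for all `q`.

* `UB_of_comp`, `UB_of_closedPoint`: the unit of `Spec R' ⟶ Spec R` is bijective on global sections.
* `unit_bijAt_top`: degree zero.
* `subsingleton_H_of_acyclic`: `H^q(X, F) = 0` for `q > 0` if `R^q f_* F = 0` for `q > 0`.
* `bijective_hp`: the comparison.
-/

set_option autoImplicit false
universe u

open CategoryTheory CategoryTheory.Limits AlgebraicGeometry Opposite Abelian

namespace Groth.Agent.Etdl.H438.SLocBC

open EtCoh Groth.Agent.EtpbcB Groth.Agent.EtpbcB.BCCalc Groth.Agent.EtpbcB.BCIso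
open Groth.Agent.Etcore
open scoped Groth.Agent.Etcore.EtInst
open Groth.Agent.Etcore.EtInst

section general

variable {X Y Z : Scheme.{u}}

theorem bijAt_of_comp_right {F G H : Ab X} (φ : F ⟶ G) (ψ : G ⟶ H) (U : X.Etale)
    (h₁ : BijAt ψ U) (h₂ : BijAt (φ ≫ ψ) U) : BijAt φ U := by
  rw [bijAt_iff_isIso] at *
  have : IsIso (φ.hom.app (op U) ≫ ψ.hom.app (op U)) := h₂
  exact IsIso.of_isIso_comp_right _ (ψ.hom.app (op U))

theorem UB_of_comp {f : X ⟶ Y} {g : Z ⟶ X} (hg : UB g) (hfg : UB (g ≫ f)) : UB f := by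
  intro G
  have h := hfg G
  rw [unit_pullComp] at h
  refine bijAt_of_comp_right _ _ _ (bijAt_comp _ _ _ ?_ (bijAt_comp _ _ _ ?_ ?_)) h
  · rw [bijAt_push_top]; exact hg _
  · exact bijAt_of_isIso _ _
  · exact bijAt_of_isIso _ _

end general

section UB

variable {R R' : Type u} [CommRing R] [CommRing R'] [HenselianLocalRing R] [HenselianLocalRing R']
  [IsSepClosed (IsLocalRing.ResidueField R)] [IsSepClosed (IsLocalRing.ResidueField R')]

/-- Units along local morphisms of strictly local schemes are bijective on global sections. -/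
theorem UB_of_closedPoint (g : Spec (CommRingCat.of R') ⟶ Spec (CommRingCat.of R))
    (hg : g (IsLocalRing.closedPoint R') = IsLocalRing.closedPoint R) : UB g := by
  let Ω := IsLocalRing.ResidueField R'
  let p' : Spec (CommRingCat.of Ω) ⟶ Spec (CommRingCat.of R') :=
    Spec.map (CommRingCat.ofHom (IsLocalRing.residue R'))
  have hp' : p' default = IsLocalRing.closedPoint R' := by
    have : (default : ↥(Spec (CommRingCat.of Ω))) = IsLocalRing.closedPoint Ω :=
      Subsingleton.elim _ _
    rw [this]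
    exact IsLocalRing.comap_closedPoint (IsLocalRing.residue R')
  have h1 : UB p' := StrictLocStar.UB_closed p' hp'
  have h2 : UB (p' ≫ g) := by
    refine StrictLocStar.UB_closed (p' ≫ g) ?_
    rw [Scheme.Hom.comp_apply, hp', hg]
  exact UB_of_comp h1 h2

end UB

section degZero

variable {X Y X' Y' : Scheme.{u}} {f : X ⟶ Y} {g : Y' ⟶ Y} {f' : X' ⟶ Y'} {g' : X' ⟶ X}

/-- If the units of `g` are bijective on global sections and base change holds in degree zero, then the
unit of `g'` is bijective on global sections. -/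
theorem unit_bijAt_top (hg : UB g) (w : g' ≫ f = f' ≫ g) (F : Ab X)
    (h : IsIso (baseChange0 f g f' g' w F)) : BijAt ((pullPushAdj g').unit.app F) (top X) := by
  rw [← bijAt_push_top f]
  have h1 := unit_baseChange0 w F
  refine bijAt_of_comp_right _ ((sq w).hom.app _) _ (bijAt_of_isIso _ _) ?_
  rw [← h1]
  exact bijAt_comp _ _ _ (hg _) (bijAt_of_isIso _ _)

end degZero

section main

variable {R : Type u} [CommRing R] [HenselianLocalRing R] [IsSepClosed (IsLocalRing.ResidueField R)]

/-- `H^q(X, G) = 0` for `q > 0` if `X` lies over a strictly local scheme and `R^q f_* G = 0` for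
`q > 0`. -/
theorem subsingleton_H_of_acyclic {X : Scheme.{u}} (f : X ⟶ Spec (CommRingCat.of R)) (G : Ab X)
    (hG : ∀ q : ℕ, 0 < q → IsZero ((Rpush f q).obj G)) (q : ℕ) (hq : 0 < q) :
    Subsingleton (EtCoh.H X G q) := by
  obtain ⟨e⟩ := Etrest.HPush.nonempty_HPushEquiv f G hG q
  have := Groth.Agent.S0073.result R ((push f).obj G) q hq
  exact e.injective.subsingleton

variable {R' : Type u} [CommRing R'] [HenselianLocalRing R'] [IsSepClosed (IsLocalRing.ResidueField R')]

theorem bijective_hp {g : Spec (CommRingCat.of R') ⟶ Spec (CommRingCat.of R)}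
    (hg : g (IsLocalRing.closedPoint R') = IsLocalRing.closedPoint R)
    {X X' : Scheme.{u}} (f : X ⟶ Spec (CommRingCat.of R)) [QuasiCompact f] [QuasiSeparated f]
    (f' : X' ⟶ Spec (CommRingCat.of R')) (g' : X' ⟶ X) (w : g' ≫ f = f' ≫ g)
    [PreservesFiniteLimits (pull g')]
    (h0 : ∀ G : Ab X, EtPBC.IsTorsionInvertibleOn (Spec (CommRingCat.of R)) G →
      IsIso (baseChange0 f g f' g' w G))
    (h1 : ∀ G : Ab X, EtPBC.IsTorsionInvertibleOn (Spec (CommRingCat.of R)) G →
      (∀ q : ℕ, 0 < q → IsZero ((Rpush f q).obj G)) →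
      ∀ q : ℕ, 0 < q → IsZero ((Rpush f' q).obj ((pull g').obj G)))
    (F : Ab X) (hF : EtPBC.IsTorsionInvertibleOn (Spec (CommRingCat.of R)) F) (q : ℕ) :
    Function.Bijective (HpullCalc.hp g' F q) := by
  refine ExtMap.bijective_of_effaceable (pull g') (EtCore.pullConst g' ℤ).inv
    (fun G => EtPBC.IsTorsionInvertibleOn (Spec (CommRingCat.of R)) G) ?_ ?_ q F hF
  · intro B hB
    exact (HpullCalc.bijective_hp_zero_iff g' B).2 ((HpullCalc.bijective_unitSec_iff g' B).2
      (unit_bijAt_top (UB_of_closedPoint g hg) w B (h0 B hB)))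
  · intro B hB
    obtain ⟨J, hJ, i, hi⟩ := TorInv.exists_mono (Spec (CommRingCat.of R)) B hB
    have hT := TorInv.isTorsionInvertibleOn_tInv (Spec (CommRingCat.of R)) J
    have hz := fun (q : ℕ) (hq : 0 < q) =>
      TorInv.isZero_Rpush f (𝟙 (Spec (CommRingCat.of R))) J q hq
    refine ⟨TorInv.tInv (Spec (CommRingCat.of R)) J, cokernel i, i, cokernel.π i,
      cokernel.condition i, { exact := ShortComplex.exact_of_g_is_cokernel _ (cokernelIsCokernel i) },
      hT, TorInv.isTorsionInvertibleOn_of_epi _ (cokernel.π i) hT, fun n => ⟨?_, ?_⟩⟩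
    · exact subsingleton_H_of_acyclic f _ hz (n + 1) n.succ_pos
    · exact subsingleton_H_of_acyclic f' _ (h1 _ hT hz) (n + 1) n.succ_pos

end main

end Groth.Agent.Etdl.H438.SLocBC
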